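import Groth.Agent.S4438
import Groth.Agent.S4418
import Groth.Agent.S4419
import Groth.Agent.ProperOverLib.Basic

/-!
# Projectivity along finite locally free covers
-/

set_option autoImplicit false
set_option linter.all false
universe u

open CategoryTheory CategoryTheory.Limits AlgebraicGeometry

namespace ProjCoverLib

theorem main {X X' Y : Scheme.{u}} (f : X ⟶ Y) [LocallyOfFiniteType f]
    [QuasiCompact f] (g : X' ⟶ X) [IsFinite g] [Surjective g]
    (hfree : FlatMod.IsFinLocFree ((Coh.push g).obj (Coh.structureModule X')))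
    (hY : (CompactSpace Y ∧ Y.IsSeparated) ∨ TopologicalSpace.NoetherianSpace Y) :
    RelProj.IsProjective f ↔ RelProj.IsProjective (g ≫ f) := by
  constructor
  · intro h
    obtain ⟨⟨-, -, L, hL⟩, hp⟩ := Groth.Agent.S4418.result f h
    haveI := hp
    exact Groth.Agent.S4419.result hY (g ≫ f) ⟨inferInstance, inferInstance, _, NormDescLib.relAmple_pb g f hL⟩
  · intro h
    obtain ⟨⟨-, -, L, hL⟩, hp⟩ := Groth.Agent.S4418.result (g ≫ f) h
    haveI := hp
    obtain ⟨M, hM⟩ := NormBundleLib.exists_relAmple_of_pb f g hfree hL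
    haveI : IsProper f := ProperOverLib.isProper_of_comp_surjective g f
    exact Groth.Agent.S4419.result hY f ⟨inferInstance, inferInstance, M, hM.2⟩

end ProjCoverLib
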